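import Mathlib
import Groth.Agent.RegLocLib.AffineDim
import Groth.Agent.SMT.Dimension
/-!
Generic translates: polynomial maps into small algebras have kernels; norms of non-zero-divisors.
-/

set_option autoImplicit false
set_option linter.style.haveILetI false

universe u v

open MvPolynomial
open scoped TensorProduct

namespace Groth.Agent.MovTransLib

theorem exists_mem_ker {k B : Type u} [Field k] [CommRing B] [Algebra k B] [Algebra.FiniteType k B] (r : ℕ)
    (hB : ringKrullDim B < (r : WithBot ℕ∞)) (φ : MvPolynomial (Fin r) k →ₐ[k] B) :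
    ∃ h : MvPolynomial (Fin r) k, h ≠ 0 ∧ φ h = 0 := by
  by_contra hc
  push Not at hc
  have hd : Disjoint ((⊥ : Ideal B) : Set B) ((nonZeroDivisors (MvPolynomial (Fin r) k)).map φ : Submonoid B) := by
    rw [Set.disjoint_left]
    rintro x hx ⟨h, hh, rfl⟩
    exact hc h (nonZeroDivisors.ne_zero hh) (by simpa using hx)
  obtain ⟨p, hp, -, hpd⟩ := Ideal.exists_le_prime_disjoint _ _ hd
  haveI := hp
  have hinj : Function.Injective ((Ideal.Quotient.mkₐ k p).comp φ) := by
    refine (injective_iff_map_eq_zero _).mpr fun h hh => ?_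
    by_contra hne
    exact Set.disjoint_left.mp hpd (Ideal.Quotient.eq_zero_iff_mem.mp hh)
      ⟨h, mem_nonZeroDivisors_of_ne_zero hne, rfl⟩
  obtain ⟨n, hn, hdim, -⟩ := RegLocLib.affine_domain_dim k (B ⧸ p)
  have h1 : (r : Cardinal) ≤ (n : Cardinal) := by
    refine le_trans ?_ hn.le
    refine le_trans (le_of_eq ?_) (trdeg_le_of_injective
      ((IsScalarTower.toAlgHom k (B ⧸ p) (FractionRing (B ⧸ p))).comp ((Ideal.Quotient.mkₐ k p).comp φ))
      ((IsFractionRing.injective (B ⧸ p) (FractionRing (B ⧸ p))).comp hinj))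
    rw [MvPolynomial.trdeg_of_isDomain]
    simp
  have h1' : r ≤ n := by exact_mod_cast h1
  have h2 := (hdim.symm.le.trans (ringKrullDim_quotient_le p)).trans_lt hB
  exact absurd h1' (not_le.mpr (by exact_mod_cast h2))

/-- The parameters of translates of points of a finite scheme into a small scheme avoid an open set. -/
theorem exists_avoid {k Q F : Type u} [Field k] [CommRing Q] [Algebra k Q] [Algebra.FiniteType k Q] [CommRing F]
    [Algebra k F] [Module.Finite k F] (r : ℕ) (hQ : ringKrullDim Q < (r : WithBot ℕ∞)) (x : Fin r → Q) (ξ : Fin r → F)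
    (u τ : Q) (hu : u * τ = 1) :
    ∃ h : MvPolynomial (Fin r) k, h ≠ 0 ∧ ∀ (L : Type v) [Field L] [Algebra k L] (α : Q →ₐ[k] L) (β : F →ₐ[k] L)
      (gL : Fin r → L), (∀ i, α (x i) = β (ξ i) + α τ * gL i) → aeval gL h = 0 := by
  let φ : MvPolynomial (Fin r) k →ₐ[k] Q ⊗[k] F :=
    aeval fun i => (u ⊗ₜ[k] (1 : F)) * (x i ⊗ₜ[k] (1 : F) - (1 : Q) ⊗ₜ[k] ξ i)
  haveI : Module.Finite Q (Q ⊗[k] F) := inferInstance
  haveI : Algebra.FiniteType k (Q ⊗[k] F) := Algebra.FiniteType.trans ‹Algebra.FiniteType k Q› inferInstance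
  obtain ⟨h, hne, hh⟩ := exists_mem_ker r
    ((SMT.ringKrullDim_le_of_isIntegral (P := Q) (B := Q ⊗[k] F)).trans_lt hQ) φ
  refine ⟨h, hne, fun L _ _ α β gL hg => ?_⟩
  have hev : (Algebra.TensorProduct.lift α β fun _ _ => Commute.all _ _).comp φ = aeval gL := by
    refine algHom_ext fun i => ?_
    have : α u * α τ = 1 := by rw [← map_mul, hu, map_one]
    simp [φ, hg i, ← mul_assoc, this]
  rw [← hev, AlgHom.comp_apply, hh, map_zero]

/-- An integral element which is not a zero divisor divides a nonzero element of the base. -/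
theorem exists_dvd_algebraMap {P B : Type*} [CommRing P] [IsDomain P] [CommRing B] [Algebra P B]
    (q : B) (hq : IsIntegral P q) (hnz : ∀ z : B, z * q = 0 → z = 0) :
    ∃ h : P, h ≠ 0 ∧ q ∣ algebraMap P B h := by
  obtain ⟨f, hf, hfq⟩ := hq
  have hq0 : Polynomial.aeval q f = 0 := hfq
  clear hfq
  have hne : f ≠ 0 := hf.ne_zero
  clear hf
  induction hn : f.natDegree using Nat.strong_induction_on generalizing f with
  | _ n ih =>
    by_cases hc : f.coeff 0 = 0
    · obtain ⟨g, rfl⟩ := Polynomial.X_dvd_iff.mpr hc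
      have hg : g ≠ 0 := fun h => hne (by rw [h, mul_zero])
      rw [map_mul, Polynomial.aeval_X, mul_comm] at hq0
      refine ih g.natDegree ?_ g (hnz _ hq0) hg rfl
      rw [← hn, Polynomial.natDegree_X_mul hg]
      exact Nat.lt_succ_self _
    · refine ⟨f.coeff 0, hc, -Polynomial.aeval q f.divX, ?_⟩
      have h := congrArg (Polynomial.aeval q) (Polynomial.X_mul_divX_add f)
      rw [map_add, map_mul, Polynomial.aeval_X, Polynomial.aeval_C, hq0] at h
      rw [mul_neg]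
      exact eq_neg_of_add_eq_zero_right h

/-- A translated nonzero polynomial over a finite algebra divides a nonzero polynomial in the translation. -/
theorem exists_translate_dvd {k A : Type u} [Field k] [CommRing A] [Algebra k A] [Module.Finite k A] (r : ℕ)
    (ξ : Fin r → A) (τ τ' : A) (hτ : τ' * τ = 1) (a : MvPolynomial (Fin r) k) (ha : a ≠ 0) :
    ∃ h : MvPolynomial (Fin r) k, h ≠ 0 ∧ ∀ (C : Type v) [CommRing C] [Algebra k C] (β : A →ₐ[k] C) (c : Fin r → C),
      aeval (fun i => β (ξ i) + β τ * c i) a ∣ aeval c h := by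
  let B := MvPolynomial (Fin r) k ⊗[k] A
  let ψ : B →ₐ[k] B := Algebra.TensorProduct.lift
    (aeval fun i => (1 : MvPolynomial (Fin r) k) ⊗ₜ[k] ξ i + (1 ⊗ₜ[k] τ) * (X i ⊗ₜ[k] 1))
    Algebra.TensorProduct.includeRight fun _ _ => Commute.all _ _
  let ψ' : B →ₐ[k] B := Algebra.TensorProduct.lift
    (aeval fun i => ((1 : MvPolynomial (Fin r) k) ⊗ₜ[k] τ') * (X i ⊗ₜ[k] 1 - 1 ⊗ₜ[k] ξ i))
    Algebra.TensorProduct.includeRight fun _ _ => Commute.all _ _
  have hψl : ∀ i, ψ (X i ⊗ₜ[k] 1) = 1 ⊗ₜ[k] ξ i + (1 ⊗ₜ[k] τ) * (X i ⊗ₜ[k] 1) := fun i => by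
    dsimp only [ψ]; rw [Algebra.TensorProduct.lift_tmul, aeval_X, map_one, mul_one]
  have hψr : ∀ x, ψ ((1 : MvPolynomial (Fin r) k) ⊗ₜ[k] x) = 1 ⊗ₜ[k] x := fun x => by
    dsimp only [ψ]; rw [Algebra.TensorProduct.lift_tmul, map_one, one_mul, Algebra.TensorProduct.includeRight_apply]
  have hψ'l : ∀ i, ψ' (X i ⊗ₜ[k] 1) = (1 ⊗ₜ[k] τ') * (X i ⊗ₜ[k] 1 - 1 ⊗ₜ[k] ξ i) := fun i => by
    dsimp only [ψ']; rw [Algebra.TensorProduct.lift_tmul, aeval_X, map_one, mul_one]
  have hψ'r : ∀ x, ψ' ((1 : MvPolynomial (Fin r) k) ⊗ₜ[k] x) = 1 ⊗ₜ[k] x := fun x => by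
    dsimp only [ψ']; rw [Algebra.TensorProduct.lift_tmul, map_one, one_mul, Algebra.TensorProduct.includeRight_apply]
  have hu : ((1 : MvPolynomial (Fin r) k) ⊗ₜ[k] τ) * (1 ⊗ₜ[k] τ') = (1 : B) := by
    rw [Algebra.TensorProduct.tmul_mul_tmul, one_mul, mul_comm τ, hτ, Algebra.TensorProduct.one_def]
  have hinv : ψ'.comp ψ = AlgHom.id k B := by
    refine Algebra.TensorProduct.ext (algHom_ext fun i => ?_) (AlgHom.ext fun x => ?_)
    · show ψ' (ψ (X i ⊗ₜ[k] 1)) = X i ⊗ₜ[k] 1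
      rw [hψl, map_add, map_mul, hψ'l, hψ'r, hψ'r, ← mul_assoc, hu, one_mul, add_sub_cancel]
    · show ψ' (ψ (1 ⊗ₜ[k] x)) = 1 ⊗ₜ[k] x
      rw [hψr, hψ'r]
  have hinv' : ψ.comp ψ' = AlgHom.id k B := by
    refine Algebra.TensorProduct.ext (algHom_ext fun i => ?_) (AlgHom.ext fun x => ?_)
    · show ψ (ψ' (X i ⊗ₜ[k] 1)) = X i ⊗ₜ[k] 1
      rw [hψ'l, map_mul, map_sub, hψl, hψr, hψr, add_sub_cancel_left, ← mul_assoc, mul_comm (1 ⊗ₜ[k] τ'), hu, one_mul]
    · show ψ (ψ' (1 ⊗ₜ[k] x)) = 1 ⊗ₜ[k] x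
      rw [hψ'r, hψr]
  have hsurj : ∀ z, ψ (ψ' z) = z := fun z => congrArg (fun f : B →ₐ[k] B => f z) hinv'
  have hleft : ∀ z, ψ' (ψ z) = z := fun z => congrArg (fun f : B →ₐ[k] B => f z) hinv
  have hnzd : ∀ z : B, z * ψ (a ⊗ₜ[k] 1) = 0 → z = 0 := by
    intro z hz
    have hinj : Function.Injective (LinearMap.rTensor A (LinearMap.mulLeft k a)) :=
      Module.Flat.rTensor_preserves_injective_linearMap _ (mul_right_injective₀ ha)
    have hmul : ∀ w : B, LinearMap.rTensor A (LinearMap.mulLeft k a) w = w * (a ⊗ₜ[k] 1) := by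
      intro w
      induction w using TensorProduct.induction_on with
      | zero => simp
      | tmul p q => rw [LinearMap.rTensor_tmul, LinearMap.mulLeft_apply, Algebra.TensorProduct.tmul_mul_tmul, mul_one, mul_comm]
      | add x y hx hy => rw [map_add, hx, hy, add_mul]
    have : ψ' z * (a ⊗ₜ[k] 1) = 0 := by
      have := congrArg ψ' hz
      rwa [map_mul, hleft, map_zero] at this
    rw [← hmul] at this
    rw [← hsurj z, hinj (this.trans (map_zero _).symm), map_zero]
  obtain ⟨h, hne, hdvd⟩ := exists_dvd_algebraMap (P := MvPolynomial (Fin r) k) (ψ (a ⊗ₜ[k] 1))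
    (Algebra.IsIntegral.isIntegral _) hnzd
  refine ⟨h, hne, fun C _ _ β c => ?_⟩
  let ev : B →ₐ[k] C := Algebra.TensorProduct.lift (aeval c) β fun _ _ => Commute.all _ _
  have := map_dvd ev hdvd
  rw [Algebra.TensorProduct.algebraMap_apply, Algebra.algebraMap_self_apply] at this
  have e1 : (ev.comp ψ).comp Algebra.TensorProduct.includeLeft = aeval (fun i => β (ξ i) + β τ * c i) :=
    algHom_ext fun i => by
      show ev (ψ (X i ⊗ₜ[k] 1)) = _
      rw [hψl, map_add, map_mul, aeval_X]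
      dsimp only [ev]
      rw [Algebra.TensorProduct.lift_tmul, Algebra.TensorProduct.lift_tmul, Algebra.TensorProduct.lift_tmul,
        map_one, map_one, one_mul, one_mul, aeval_X, mul_one]
  have e2 : ev (ψ (a ⊗ₜ[k] 1)) = aeval (fun i => β (ξ i) + β τ * c i) a := by rw [← e1]; rfl
  rw [e2] at this
  dsimp only [ev] at this
  rwa [Algebra.TensorProduct.lift_tmul, map_one, mul_one] at this

end Groth.Agent.MovTransLib
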